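import Cfsg.Agent.HeisenbergSL.Frame

/-!
# Splitting `3^{1+2}.SL(2,3)` when the Sylow 3-subgroup has 3-rank 3
-/

set_option autoImplicit false

namespace CfsgLib.HeisenbergSL

open Matrix

variable {X : Type*} [Group X]

namespace Frame

variable (F : Frame X)

theorem pwR (k : ZMod 3) : pw F.ζ k ∈ F.R := pw_mem F.zeta_mem k

theorem f_pw (k : ZMod 3) : F.f (pw F.ζ k) = 0 := (F.f_eq_zero _ (F.pwR k)).2 ⟨k, rfl⟩

theorem f_one : F.f 1 = 0 := by rw [← pw_zero F.ζ, F.f_pw]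

theorem pw_central (x : X) (k : ZMod 3) : x * pw F.ζ k = pw F.ζ k * x := pw_comm F.zeta_cen x k

theorem f_inv {r : X} (hr : r ∈ F.R) : F.f r⁻¹ = - F.f r := by
  have h := F.f_mul r hr r⁻¹ (F.R.inv_mem hr)
  rw [mul_inv_cancel, F.f_one] at h
  exact eq_neg_of_add_eq_zero_right h.symm

theorem f_pow {r : X} (hr : r ∈ F.R) (n : ℕ) : F.f (r ^ n) = (n : ZMod 3) • F.f r := by
  induction n with
  | zero => rw [pow_zero, F.f_one, Nat.cast_zero, zero_smul]
  | succ n ih => rw [pow_succ, F.f_mul _ (F.R.pow_mem hr n) _ hr, ih, Nat.cast_succ, add_smul, one_smul]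

/-- Elements of `R` with equal coordinates differ by a central element. -/
theorem exists_of_f_eq {r s : X} (hr : r ∈ F.R) (hs : s ∈ F.R) (h : F.f r = F.f s) :
    ∃ k, s = r * pw F.ζ k := by
  have h0 : F.f (r⁻¹ * s) = 0 := by rw [F.f_mul _ (F.R.inv_mem hr) _ hs, F.f_inv hr, h, neg_add_cancel]
  obtain ⟨k, hk⟩ := (F.f_eq_zero _ (F.R.mul_mem (F.R.inv_mem hr) hs)).1 h0
  exact ⟨k, by rw [← hk, mul_inv_cancel_left]⟩

end Frame

theorem det2_eq_zero : ∀ w s : Fin 2 → ZMod 3, s ≠ 0 → det2 w s = 0 → ∃ k : ZMod 3, w = k • s := by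
  decide +kernel

theorem two_mul_three : ∀ d k : ZMod 3, d = k + k → k = -d := by decide

theorem pow_three_matrix_fix : ∀ k : ZMod 3, k + k = 0 → k = 0 := by decide

theorem add_self_eq_neg : ∀ a : ZMod 3, a + a = -a := by decide

theorem sq_eq_one_three : ∀ m : ZMod 3, m ≠ 0 → m * m = 1 := by decide

theorem neg_eq_eight_mul : ∀ a : ZMod 3, -a = ((8 : ℕ) : ZMod 3) * a := by decide

theorem det2_std : det2 (![1, 0] : Fin 2 → ZMod 3) ![0, 1] ≠ 0 := by decide

/-- Coordinates on `X`. -/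
theorem Frame.exists_coord [Finite X] (F : Frame X)
    (hE : ∃ E : Subgroup X, IsMulCommutative E ∧ (∀ a ∈ E, a ^ 3 = 1) ∧ Nat.card E = 27) :
    ∃ P : (Fin 2 → ZMod 3) → ZMod 3 → SL23 → X, IsCoord P := by
  classical
  have : Fact (Nat.Prime 3) := ⟨Nat.prime_three⟩
  have hz3 := F.zeta_pow
  have hinj := pw_injective hz3 F.zeta_ne
  -- the involution
  obtain ⟨j0, hj0⟩ := F.surj negOne
  set j := j0 ^ 27 with hjdef
  have hjρ : F.ρ j = negOne := by rw [hjdef, map_pow, hj0]; decide +kernel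
  have hjj : j * j = 1 := by
    have h2 : j0 * j0 ∈ F.R := (F.ker_eq _).1 (by rw [map_mul, hj0]; decide +kernel)
    have h3 := pow_card_eq_one' (G := F.R) (x := ⟨j0 * j0, h2⟩)
    rw [F.card_R] at h3
    have h4 := congrArg Subtype.val h3
    simp only [SubmonoidClass.coe_pow, Subgroup.coe_one] at h4
    rw [hjdef, ← pow_add, show (27 + 27 : ℕ) = 2 * 27 from rfl, pow_mul, pow_two, h4]
  have hjinv : j⁻¹ = j := inv_eq_of_mul_eq_one_left hjj
  have hjf : ∀ r ∈ F.R, F.f (j * r * j⁻¹) = - F.f r := by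
    intro r hr
    rw [F.action j r hr, hjρ]
    funext i
    fin_cases i <;> simp [negOne, Matrix.mulVec, dotProduct, Fin.sum_univ_two]
  -- inverted representatives
  have hex : ∀ v, ∃ r ∈ F.R, F.f r = v ∧ j * r * j⁻¹ = r⁻¹ := by
    intro v
    obtain ⟨r, hr, hfr⟩ := F.f_surj v
    have h0 : F.f (j * r * j⁻¹ * r) = 0 := by
      rw [F.f_mul _ (F.conj_mem j r hr) _ hr, hjf r hr, neg_add_cancel]
    obtain ⟨k, hk⟩ := (F.f_eq_zero _ (F.R.mul_mem (F.conj_mem j r hr) hr)).1 h0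
    refine ⟨r * pw F.ζ k, F.R.mul_mem hr (F.pwR k), ?_, ?_⟩
    · rw [F.f_mul _ hr _ (F.pwR k), F.f_pw, add_zero, hfr]
    · have e1 : j * r * j⁻¹ = pw F.ζ k * r⁻¹ := by rw [← hk]; group
      calc j * (r * pw F.ζ k) * j⁻¹ = (j * r * j⁻¹) * (j * pw F.ζ k * j⁻¹) := by group
        _ = pw F.ζ k * r⁻¹ * pw F.ζ k := by rw [e1, F.pw_central j k, mul_inv_cancel_right]
        _ = pw F.ζ (k + k) * r⁻¹ := by rw [mul_assoc, F.pw_central r⁻¹ k, ← mul_assoc, pw_add hz3]
        _ = pw F.ζ (-k) * r⁻¹ := by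
          rw [show k + k = -k from add_self_eq_neg k]
        _ = _ := by rw [pw_neg hz3, _root_.mul_inv_rev]
  choose τ hτR hτf hτj using hex
  have huniq : ∀ r ∈ F.R, j * r * j⁻¹ = r⁻¹ → r = τ (F.f r) := by
    intro r hr hrj
    obtain ⟨m, hm⟩ := F.exists_of_f_eq (hτR (F.f r)) hr (hτf _)
    have e1 : j * r * j⁻¹ = pw F.ζ m * (τ (F.f r))⁻¹ := by
      calc j * r * j⁻¹ = (j * τ (F.f r) * j⁻¹) * (j * pw F.ζ m * j⁻¹) := by
            conv_lhs => rw [hm]
            group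
        _ = _ := by rw [hτj, F.pw_central j m, mul_inv_cancel_right, F.pw_central]
    have e2 : r⁻¹ = pw F.ζ (-m) * (τ (F.f r))⁻¹ := by
      conv_lhs => rw [hm]
      rw [_root_.mul_inv_rev, pw_neg hz3]
    have e3 : m = -m := hinj (mul_right_cancel (e1.symm.trans (hrj.trans e2)))
    rw [pow_three_matrix_fix m (by nth_rewrite 2 [e3]; exact add_neg_cancel m), pw_zero, mul_one] at hm
    exact hm
  have hτ0 : τ 0 = 1 := by
    have h := huniq 1 F.R.one_mem (by simp)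
    rw [F.f_one] at h
    exact h.symm
  have hτmul : ∀ v w, τ v * τ w = τ (v + w) * pw F.ζ (- det2 v w) := by
    intro v w
    set y := τ v * τ w with hy
    have hyR : y ∈ F.R := F.R.mul_mem (hτR v) (hτR w)
    obtain ⟨k, hk⟩ := F.exists_of_f_eq (hτR (v + w)) hyR
      (by rw [hy, F.f_mul _ (hτR v) _ (hτR w), hτf, hτf, hτf])
    have e1 : j * y * j⁻¹ = (τ v)⁻¹ * (τ w)⁻¹ := by
      rw [← hτj v, ← hτj w, hy]; group
    have e2 : j * y * j⁻¹ = (τ (v + w))⁻¹ * pw F.ζ k := by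
      calc j * y * j⁻¹ = (j * τ (v + w) * j⁻¹) * (j * pw F.ζ k * j⁻¹) := by rw [hk]; group
        _ = _ := by rw [hτj, F.pw_central j k, mul_inv_cancel_right]
    have e3 : y * ((τ v)⁻¹ * (τ w)⁻¹) = pw F.ζ (det2 v w) := by
      have h := F.comm _ (hτR v) _ (hτR w)
      rw [hτf, hτf] at h
      rw [hy, h]; group
    have e4 : y * ((τ (v + w))⁻¹ * pw F.ζ k) = pw F.ζ (k + k) := by
      rw [hk, F.pw_central (τ (v + w)) k, pw_add hz3]; group
    rw [← e1, e2, e4] at e3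
    rw [hk, two_mul_three _ k (hinj e3).symm]
  have hfixed : ∀ r ∈ F.R, j * r * j⁻¹ = r → ∃ k, r = pw F.ζ k := by
    intro r hr h
    refine (F.f_eq_zero r hr).1 ?_
    have := hjf r hr
    rw [h] at this
    funext i
    exact pow_three_matrix_fix _ (by
      have h1 := congrFun this i
      rw [Pi.neg_apply] at h1
      nth_rewrite 1 [h1]
      exact neg_add_cancel _)
  -- the centraliser of `j`
  set C : Subgroup X := Subgroup.centralizer {j} with hCdef
  have hC : ∀ x, x ∈ C ↔ x * j = j * x := fun x => Subgroup.mem_centralizer_singleton_iff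
  have hequiv : ∀ y ∈ C, ∀ v, y * τ v * y⁻¹ = τ ((F.ρ y).1 *ᵥ v) := by
    intro y hy v
    have hyj := (hC y).1 hy
    have hyi : y⁻¹ * j = j * y⁻¹ := by
      calc y⁻¹ * j = y⁻¹ * (j * y) * y⁻¹ := by group
        _ = _ := by rw [← hyj]; group
    have h := huniq _ (F.conj_mem y _ (hτR v)) (by
      calc j * (y * τ v * y⁻¹) * j⁻¹ = (j * y) * τ v * (j * y)⁻¹ := by group
        _ = (y * j) * τ v * (y * j)⁻¹ := by rw [hyj]
        _ = y * (j * τ v * j⁻¹) * y⁻¹ := by group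
        _ = _ := by rw [hτj]; group)
    rw [F.action y _ (hτR v), hτf] at h
    exact h
  have hlift : ∀ y0 : X, ∃ w, τ w * y0 ∈ C := by
    intro y0
    set q := y0 * j * y0⁻¹ * j⁻¹ with hq
    have hqR : q ∈ F.R := (F.ker_eq q).1 (by
      rw [hq, map_mul, map_mul, map_mul, map_inv, map_inv, hjρ]
      have hcn : ∀ g : SL23, g * negOne = negOne * g := fun g => by
        apply Subtype.ext
        simp only [Matrix.SpecialLinearGroup.coe_mul]
        ext a b
        fin_cases a <;> fin_cases b <;> simp [negOne, Matrix.mul_apply, Fin.sum_univ_two]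
      rw [hcn, mul_inv_cancel_right, mul_inv_cancel])
    have hqi : j * q * j⁻¹ = q⁻¹ := by
      calc j * q * j⁻¹ = j * y0 * j * y0⁻¹ * (j⁻¹ * j⁻¹) := by rw [hq]; group
        _ = j * y0 * j⁻¹ * y0⁻¹ := by rw [hjinv, hjj, mul_one]
        _ = _ := by rw [hq]; group
    refine ⟨F.f q, (hC _).2 ?_⟩
    set w := F.f q with hw
    have hqw : q = τ w := huniq q hqR hqi
    have hm : τ w * τ w * τ w = 1 := by
      have := F.pow_three _ (hτR w)
      rwa [pow_succ, pow_two] at this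
    have e : y0 * j = τ w * j * y0 := by rw [← hqw, hq]; group
    have ej : j * τ w = (τ w)⁻¹ * j := by rw [← hτj w]; group
    calc τ w * y0 * j = τ w * (τ w * j * y0) := by rw [← e]; group
      _ = (τ w * τ w * τ w) * ((τ w)⁻¹ * j) * y0 := by group
      _ = _ := by rw [hm, ← ej]; group
  have hρC : ∀ A, ∃ y ∈ C, F.ρ y = A := by
    intro A
    obtain ⟨y0, hy0⟩ := F.surj A
    obtain ⟨w, hw⟩ := hlift y0
    exact ⟨_, hw, by rw [map_mul, (F.ker_eq _).2 (hτR w), one_mul, hy0]⟩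
  have hkerC : ∀ y ∈ C, F.ρ y = 1 → ∃ k, y = pw F.ζ k := by
    intro y hy h
    refine hfixed y ((F.ker_eq y).1 h) ?_
    rw [← (hC y).1 hy, mul_inv_cancel_right]
  have hpwC : ∀ k, pw F.ζ k ∈ C := fun k => (hC _).2 (F.pw_central j k).symm
  -- an element of order three of `C` outside `R`
  obtain ⟨E, hEab, hEexp, hEcard⟩ := hE
  have hEcomm : ∀ a ∈ E, ∀ b ∈ E, a * b = b * a := fun a ha b hb =>
    congrArg Subtype.val (hEab.is_comm.comm (⟨a, ha⟩ : E) ⟨b, hb⟩)
  obtain ⟨g, hgE, hgR⟩ : ∃ g ∈ E, g ∉ F.R := by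
    by_contra hall
    push Not at hall
    have he : E = F.R := Subgroup.eq_of_le_of_card_ge hall (by rw [F.card_R, hEcard])
    obtain ⟨r, hr, hfr⟩ := F.f_surj ![1, 0]
    obtain ⟨s, hs, hfs⟩ := F.f_surj ![0, 1]
    have h := F.comm r hr s hs
    rw [hEcomm r (he ▸ hr) s (he ▸ hs), hfr, hfs] at h
    have := hinj ((right_eq_mul.1 h).trans (pw_zero F.ζ).symm)
    exact det2_std this
  let φE : E →* SL23 := F.ρ.comp E.subtype
  have hφcard : Nat.card φE.range = 3 := by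
    have h1 : Nat.card φE.range ∣ 27 := hEcard ▸ Subgroup.card_range_dvd φE
    have h2 : Nat.card φE.range ∣ 24 := card_SL23 ▸ Subgroup.card_subgroup_dvd_card _
    have h3 : Nat.card φE.range ∣ 3 := Nat.dvd_gcd h1 h2
    refine ((Nat.dvd_prime Nat.prime_three).1 h3).resolve_left fun h => ?_
    have := (Subgroup.eq_bot_iff_forall _).1 (Subgroup.eq_bot_of_card_eq _ h) (F.ρ g) ⟨⟨g, hgE⟩, rfl⟩
    exact hgR ((F.ker_eq g).1 this)
  let Efix : Subgroup X := E ⊓ F.R
  have hEfix : Nat.card Efix = 9 := by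
    have h1 := φE.ker.index_mul_card
    rw [Subgroup.index_ker, hφcard, hEcard] at h1
    have h3 : Nat.card φE.ker = Nat.card Efix := by
      refine Nat.card_congr ⟨fun x => ⟨(x.1 : X), x.1.2, (F.ker_eq _).1 (MonoidHom.mem_ker.1 x.2)⟩,
        fun x => ⟨⟨x.1, x.2.1⟩, MonoidHom.mem_ker.2 ((F.ker_eq _).2 x.2.2)⟩,
        fun x => rfl, fun x => rfl⟩
    omega
  have hzE : F.ζ ∈ E := by
    by_contra hzE
    let ψ : Efix → (Fin 2 → ZMod 3) := fun r => F.f r
    have hψ : Function.Injective ψ := by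
      intro a b h
      obtain ⟨k, hk⟩ := F.exists_of_f_eq a.2.2 b.2.2 h
      have hk0 : k = 0 := by
        by_contra hk0
        apply hzE
        have hp : pw F.ζ k ∈ E := by
          rw [show pw F.ζ k = (a : X)⁻¹ * b by rw [hk]; group]
          exact E.mul_mem (E.inv_mem a.2.1) b.2.1
        have := E.pow_mem hp k.val
        rwa [pw_pow hz3, ZMod.natCast_zmod_val,
          sq_eq_one_three k hk0, pw_one] at this
      rw [hk0, pw_zero, mul_one] at hk
      exact Subtype.ext hk.symm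
    have hb := (Nat.bijective_iff_injective_and_card ψ).2 ⟨hψ, by
      rw [hEfix, Nat.card_fun, Nat.card_zmod, Nat.card_eq_fintype_card, Fintype.card_fin]; norm_num⟩
    obtain ⟨r, hr⟩ := hb.2 ![1, 0]
    obtain ⟨s, hs⟩ := hb.2 ![0, 1]
    have h := F.comm _ r.2.2 _ s.2.2
    rw [hEcomm _ r.2.1 _ s.2.1, show F.f r = _ from hr, show F.f s = _ from hs] at h
    exact det2_std (hinj ((right_eq_mul.1 h).trans (pw_zero F.ζ).symm))
  obtain ⟨r, hr, hs0⟩ : ∃ r ∈ Efix, F.f r ≠ 0 := by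
    by_contra hall
    push Not at hall
    let ψ : Efix → ZMod 3 := fun r => ((F.f_eq_zero r r.2.2).1 (hall r r.2)).choose
    have hψ : ∀ r : Efix, (r : X) = pw F.ζ (ψ r) := fun r =>
      ((F.f_eq_zero r r.2.2).1 (hall r r.2)).choose_spec
    have := Nat.card_le_card_of_injective ψ fun a b h => Subtype.ext (by rw [hψ a, hψ b, h])
    rw [hEfix, Nat.card_zmod] at this
    omega
  set s := F.f r with hsdef
  obtain ⟨w, hyC⟩ := hlift g
  have hτE : τ s ∈ E := by
    obtain ⟨k, hk⟩ := F.exists_of_f_eq hr.2 (hτR s) (by rw [hτf])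
    rw [hk]
    exact E.mul_mem hr.1 (E.pow_mem hzE _)
  have hdet : det2 w s = 0 := by
    have e0 := hequiv _ hyC s
    have hgs : g * τ s * g⁻¹ = τ s := by rw [hEcomm g hgE _ hτE, mul_inv_cancel_right]
    have e2 : τ w * g * τ s * (τ w * g)⁻¹ = pw F.ζ (det2 w s) * τ s := by
      calc τ w * g * τ s * (τ w * g)⁻¹ = τ w * (g * τ s * g⁻¹) * (τ w)⁻¹ := by group
        _ = τ w * τ s * (τ w)⁻¹ := by rw [hgs]
        _ = _ := by rw [F.comm _ (hτR w) _ (hτR s), hτf, hτf]; group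
    have hAs : (F.ρ (τ w * g)).1 *ᵥ s = s := by
      rw [map_mul, (F.ker_eq _).2 (hτR w), one_mul]
      have h := F.action g _ (hτR s)
      rw [hgs, hτf] at h
      exact h.symm
    rw [e2, hAs] at e0
    exact hinj ((mul_eq_right.1 e0).trans (pw_zero F.ζ).symm)
  obtain ⟨k, hwk⟩ := det2_eq_zero w s hs0 hdet
  have hτwE : τ w ∈ E := by
    obtain ⟨m, hm⟩ := F.exists_of_f_eq (F.R.pow_mem hr.2 k.val) (hτR w) (by
      rw [F.f_pow hr.2, hτf, ← hsdef, ZMod.natCast_zmod_val, hwk])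
    rw [hm]
    exact E.mul_mem (E.pow_mem hr.1 _) (E.pow_mem hzE _)
  set c := τ w * g with hcdef
  have hcE : c ∈ E := E.mul_mem hτwE hgE
  have hc3 : c ^ 3 = 1 := hEexp c hcE
  have hcρ : F.ρ c ≠ 1 := by
    rw [hcdef, map_mul, (F.ker_eq _).2 (hτR w), one_mul]
    exact fun h => hgR ((F.ker_eq g).1 h)
  -- the transfer
  let P : Subgroup C := E.subgroupOf C
  have hzC : (⟨pw F.ζ 1, hpwC 1⟩ : C) ∈ P := by
    rw [Subgroup.mem_subgroupOf]
    show pw F.ζ 1 ∈ E
    rw [pw_one]; exact hzE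
  have hcC : c ∈ C := hyC
  let ν : ZMod 3 × ZMod 3 → P := fun kl => ⟨⟨pw F.ζ kl.1 * pw c kl.2,
      C.mul_mem (hpwC _) (C.pow_mem hcC _)⟩, Subgroup.mem_subgroupOf.2
      (E.mul_mem (E.pow_mem hzE _) (E.pow_mem hcE _))⟩
  have hρc : orderOf (F.ρ c) = 3 := orderOf_eq_prime (by rw [← map_pow, hc3, map_one]) hcρ
  have hνinj : Function.Injective ν := by
    rintro ⟨a, b⟩ ⟨a', b'⟩ h
    have h' : pw F.ζ a * pw c b = pw F.ζ a' * pw c b' := congrArg (fun y : P => ((y : C) : X)) h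
    have h2 := congrArg F.ρ h'
    rw [map_mul, map_mul, (F.ker_eq _).2 (F.pwR a), (F.ker_eq _).2 (F.pwR a'), one_mul, one_mul,
      pw, pw, map_pow, map_pow, pow_inj_mod, hρc, Nat.mod_eq_of_lt b.val_lt,
      Nat.mod_eq_of_lt b'.val_lt] at h2
    obtain rfl := ZMod.val_injective 3 h2
    obtain rfl := hinj (mul_right_cancel h')
    rfl
  have hPcard : Nat.card P = 9 := by
    have hle : Nat.card P ≤ 9 := by
      let φP : P →* SL23 := F.ρ.comp (C.subtype.comp P.subtype)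
      have h1 := φP.ker.index_mul_card
      have h2 : Nat.card φP.ker ≤ 3 := by
        let g' : φP.ker → ZMod 3 := fun y => (hkerC _ y.1.1.2 (MonoidHom.mem_ker.1 y.2)).choose
        have hg' : ∀ y : φP.ker, ((y.1.1 : C) : X) = pw F.ζ (g' y) := fun y =>
          (hkerC _ y.1.1.2 (MonoidHom.mem_ker.1 y.2)).choose_spec
        have := Nat.card_le_card_of_injective g' fun a b h =>
          Subtype.ext (Subtype.ext (Subtype.ext (by rw [hg' a, hg' b, h])))
        rwa [Nat.card_zmod] at this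
      have h3 : φP.ker.index ≤ 3 := by
        rw [Subgroup.index_ker]
        refine le_of_le_of_eq ?_ hφcard
        refine Nat.card_le_card_of_injective (fun y => (⟨y.1, by
          obtain ⟨u, hu⟩ := y.2
          exact ⟨⟨_, Subgroup.mem_subgroupOf.1 u.2⟩, hu⟩⟩ : φE.range)) fun a b h => ?_
        exact Subtype.ext (congrArg (fun z : φE.range => (z : SL23)) h)
      rw [← h1]
      calc φP.ker.index * Nat.card φP.ker ≤ 3 * 3 := Nat.mul_le_mul h3 h2
        _ = 9 := rfl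
    have := Nat.card_le_card_of_injective ν hνinj
    rw [Nat.card_prod, Nat.card_zmod] at this
    omega
  have hνb : Function.Bijective ν := (Nat.bijective_iff_injective_and_card ν).2
    ⟨hνinj, by rw [Nat.card_prod, Nat.card_zmod, hPcard]⟩
  have hνmul : ∀ a b, ν (a + b) = ν a * ν b := by
    intro a b
    refine Subtype.ext (Subtype.ext ?_)
    show pw F.ζ (a.1 + b.1) * pw c (a.2 + b.2) = pw F.ζ a.1 * pw c a.2 * (pw F.ζ b.1 * pw c b.2)
    rw [pw_add hz3, pw_add hc3]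
    calc pw F.ζ a.1 * pw F.ζ b.1 * (pw c a.2 * pw c b.2) = pw F.ζ a.1 * (pw F.ζ b.1 * pw c a.2) * pw c b.2 := by group
      _ = pw F.ζ a.1 * (pw c a.2 * pw F.ζ b.1) * pw c b.2 := by rw [F.pw_central (pw c a.2) b.1]
      _ = _ := by group
  let e := Equiv.ofBijective ν hνb
  let ϕ : P →* Multiplicative (ZMod 3) := MonoidHom.mk' (fun p => Multiplicative.ofAdd (e.symm p).1)
    fun p q => by
      obtain ⟨a, rfl⟩ := e.surjective p
      obtain ⟨b, rfl⟩ := e.surjective q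
      rw [show e a * e b = e (a + b) from (hνmul a b).symm, Equiv.symm_apply_apply,
        Equiv.symm_apply_apply, Equiv.symm_apply_apply]
      rfl
  have hCcard : Nat.card C = 72 := by
    let φC : C →* SL23 := F.ρ.comp C.subtype
    have h1 := φC.ker.index_mul_card
    have hs : Function.Surjective φC := fun A => by
      obtain ⟨y, hy, e⟩ := hρC A
      exact ⟨⟨y, hy⟩, e⟩
    have h2 : Nat.card φC.ker = 3 := by
      let g' : ZMod 3 → φC.ker := fun k => ⟨⟨pw F.ζ k, hpwC k⟩,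
        MonoidHom.mem_ker.2 ((F.ker_eq _).2 (F.pwR k))⟩
      have hb : Function.Bijective g' := by
        refine ⟨fun a b h => hinj (congrArg (fun y : φC.ker => ((y : C) : X)) h), fun y => ?_⟩
        obtain ⟨k, hk⟩ := hkerC _ y.1.2 (MonoidHom.mem_ker.1 y.2)
        exact ⟨k, Subtype.ext (Subtype.ext hk.symm)⟩
      rw [← Nat.card_eq_of_bijective g' hb, Nat.card_zmod]
    rw [Subgroup.index_ker, MonoidHom.range_eq_top.2 hs, Subgroup.card_top, card_SL23, h2] at h1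
    omega
  have hidx : P.index = 8 := by
    have h1 := P.index_mul_card
    rw [hPcard, hCcard] at h1
    omega
  let T : C →* Multiplicative (ZMod 3) := MonoidHom.transfer ϕ
  have hT : ∀ k, T ⟨pw F.ζ k, hpwC k⟩ = Multiplicative.ofAdd (-k) := by
    intro k
    have key : ∀ (n : ℕ) (g₀ : C), g₀⁻¹ * (⟨pw F.ζ k, hpwC k⟩ : C) ^ n * g₀ ∈ P →
        g₀⁻¹ * (⟨pw F.ζ k, hpwC k⟩ : C) ^ n * g₀ = (⟨pw F.ζ k, hpwC k⟩ : C) ^ n := by
      intro n g₀ _
      refine Subtype.ext ?_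
      simp only [Subgroup.coe_mul, Subgroup.coe_inv, SubmonoidClass.coe_pow]
      rw [pw_pow hz3, mul_assoc, ← F.pw_central, inv_mul_cancel_left]
    show MonoidHom.transfer ϕ _ = _
    rw [MonoidHom.transfer_eq_pow ϕ _ key]
    show Multiplicative.ofAdd (e.symm _).1 = _
    congr 1
    have h8 : e (-k, 0) = (⟨(⟨pw F.ζ k, hpwC k⟩ : C) ^ P.index,
        MonoidHom.transfer_eq_pow_aux _ key⟩ : P) := by
      refine Subtype.ext (Subtype.ext ?_)
      show pw F.ζ (-k) * pw c 0 = _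
      rw [pw_zero, mul_one]
      simp only [SubmonoidClass.coe_pow, hidx]
      rw [pw_pow hz3]
      congr 1
      exact neg_eq_eight_mul k
    rw [← h8, Equiv.symm_apply_apply]
  -- the complement
  have hexL : ∀ A, ∃ y : C, T y = 1 ∧ F.ρ y = A := by
    intro A
    obtain ⟨y, hy, rfl⟩ := hρC A
    refine ⟨⟨y, hy⟩ * ⟨pw F.ζ (T ⟨y, hy⟩).toAdd, hpwC _⟩, ?_, ?_⟩
    · rw [map_mul, hT]
      apply Multiplicative.toAdd.injective
      rw [toAdd_mul, toAdd_ofAdd, add_neg_cancel, toAdd_one]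
    · rw [Subgroup.coe_mul, map_mul, (F.ker_eq _).2 (F.pwR _), mul_one]
  choose ℓ hℓT hℓρ using hexL
  have hℓu : ∀ y : C, T y = 1 → y = ℓ (F.ρ y) := by
    intro y hy
    obtain ⟨k, hk⟩ := hkerC _ ((ℓ (F.ρ y))⁻¹ * y).2 (by
      rw [Subgroup.coe_mul, Subgroup.coe_inv, map_mul, map_inv, hℓρ, inv_mul_cancel])
    have h2 : T ⟨pw F.ζ k, hpwC k⟩ = 1 := by
      rw [show (⟨pw F.ζ k, hpwC k⟩ : C) = (ℓ (F.ρ y))⁻¹ * y from Subtype.ext hk.symm, map_mul,
        map_inv, hℓT, hy, inv_one, one_mul]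
    rw [hT] at h2
    have hk0 : k = 0 := neg_eq_zero.1 (congrArg Multiplicative.toAdd h2)
    have h3 : (ℓ (F.ρ y))⁻¹ * y = 1 := Subtype.ext (by rw [hk, hk0, pw_zero]; rfl)
    exact (inv_mul_eq_one.1 h3).symm
  have hℓmul : ∀ A B, ℓ A * ℓ B = ℓ (A * B) := by
    intro A B
    have h := hℓu (ℓ A * ℓ B) (by rw [map_mul, hℓT, hℓT, one_mul])
    rwa [Subgroup.coe_mul, map_mul, hℓρ, hℓρ] at h
  refine ⟨fun v z A => τ v * pw F.ζ z * (ℓ A : X), ?_, ?_, ?_⟩
  · intro v z A w y B h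
    have hA : A = B := by
      have := congrArg F.ρ h
      simp only [map_mul, (F.ker_eq _).2 (hτR v), (F.ker_eq _).2 (hτR w), (F.ker_eq _).2 (F.pwR _),
        hℓρ, one_mul] at this
      exact this
    subst hA
    have h2 := mul_right_cancel h
    have hv : v = w := by
      have := congrArg F.f h2
      rwa [F.f_mul _ (hτR v) _ (F.pwR z), F.f_mul _ (hτR w) _ (F.pwR y), hτf, hτf, F.f_pw, F.f_pw,
        add_zero, add_zero] at this
    subst hv
    exact ⟨rfl, hinj (mul_left_cancel h2), rfl⟩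
  · intro x
    set q := x * ((ℓ (F.ρ x) : C) : X)⁻¹ with hq
    have hqR : q ∈ F.R := (F.ker_eq q).1 (by rw [hq, map_mul, map_inv, hℓρ, mul_inv_cancel])
    obtain ⟨k, hk⟩ := F.exists_of_f_eq (hτR (F.f q)) hqR (hτf _)
    exact ⟨F.f q, k, F.ρ x, by
      show τ (F.f q) * pw F.ζ k * (ℓ (F.ρ x) : X) = x
      rw [← hk, hq, inv_mul_cancel_right]⟩
  · intro v z A w y B
    have h1 := hequiv _ (ℓ A).2 w
    rw [hℓρ] at h1
    calc τ v * pw F.ζ z * (ℓ A : X) * (τ w * pw F.ζ y * (ℓ B : X))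
        = τ v * pw F.ζ z * ((ℓ A : X) * τ w * (ℓ A : X)⁻¹) * ((ℓ A : X) * pw F.ζ y) * (ℓ B : X) := by group
      _ = τ v * (pw F.ζ z * τ (A.1 *ᵥ w)) * (pw F.ζ y * (ℓ A : X)) * (ℓ B : X) := by
        rw [h1, F.pw_central (ℓ A : X) y]; group
      _ = (τ v * τ (A.1 *ᵥ w)) * (pw F.ζ z * pw F.ζ y) * ((ℓ A : X) * (ℓ B : X)) := by
        rw [← F.pw_central (τ (A.1 *ᵥ w)) z]; group
      _ = _ := by
        rw [hτmul, ← Subgroup.coe_mul, hℓmul, mul_assoc (τ (v + A.1 *ᵥ w)), ← pw_add hz3, ← pw_add hz3,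
          show -det2 v (A.1 *ᵥ w) + (z + y) = z + y - det2 v (A.1 *ᵥ w) by ring]

end CfsgLib.HeisenbergSL
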