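import Mathlib

/-!
# Coordinates on `3^{1+2}.SL(2,3)`
-/

set_option autoImplicit false

namespace CfsgLib.HeisenbergSL

/-- `SL(2,3)`. -/
abbrev SL23 := Matrix.SpecialLinearGroup (Fin 2) (ZMod 3)

/-- The alternating form on pairs. -/
def det2 {R : Type*} [CommRing R] (v w : Fin 2 → R) : R := v 0 * w 1 - v 1 * w 0

/-- `P` parametrises the group `X` as `3^{1+2}.SL(2,3)`. -/
structure IsCoord {X : Type*} [Mul X] (P : (Fin 2 → ZMod 3) → ZMod 3 → SL23 → X) : Prop where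
  injective : ∀ v z A w y B, P v z A = P w y B → v = w ∧ z = y ∧ A = B
  surjective : ∀ x : X, ∃ v z A, P v z A = x
  mul : ∀ v z A w y B, P v z A * P w y B =
    P (v + A.1.mulVec w) (z + y - det2 v (A.1.mulVec w)) (A * B)

theorem IsCoord.nonempty_equiv {X Y : Type*} [Mul X] [Mul Y]
    {P : (Fin 2 → ZMod 3) → ZMod 3 → SL23 → X} {Q : (Fin 2 → ZMod 3) → ZMod 3 → SL23 → Y}
    (hP : IsCoord P) (hQ : IsCoord Q) : Nonempty (X ≃* Y) := by
  let p : (Fin 2 → ZMod 3) × ZMod 3 × SL23 → X := fun a => P a.1 a.2.1 a.2.2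
  let q : (Fin 2 → ZMod 3) × ZMod 3 × SL23 → Y := fun a => Q a.1 a.2.1 a.2.2
  have hp : Function.Bijective p := by
    refine ⟨fun a b h => ?_, fun x => ?_⟩
    · obtain ⟨h1, h2, h3⟩ := hP.injective _ _ _ _ _ _ h
      exact Prod.ext h1 (Prod.ext h2 h3)
    · obtain ⟨v, z, A, rfl⟩ := hP.surjective x
      exact ⟨(v, z, A), rfl⟩
  have hq : Function.Bijective q := by
    refine ⟨fun a b h => ?_, fun x => ?_⟩
    · obtain ⟨h1, h2, h3⟩ := hQ.injective _ _ _ _ _ _ h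
      exact Prod.ext h1 (Prod.ext h2 h3)
    · obtain ⟨v, z, A, rfl⟩ := hQ.surjective x
      exact ⟨(v, z, A), rfl⟩
  let e : X ≃ Y := (Equiv.ofBijective p hp).symm.trans (Equiv.ofBijective q hq)
  have he : ∀ a, e (p a) = q a := fun a => by
    simp only [e, Equiv.trans_apply]
    rw [show p a = Equiv.ofBijective p hp a from rfl, Equiv.symm_apply_apply]
    rfl
  refine ⟨MulEquiv.mk e fun x y => ?_⟩
  obtain ⟨⟨v, z, A⟩, rfl⟩ := hp.2 x
  obtain ⟨⟨w, y, B⟩, rfl⟩ := hp.2 y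
  show e (P v z A * P w y B) = e (p (v, z, A)) * e (p (w, y, B))
  rw [he, he, hP.mul]
  exact (he (_, _, _)).trans (hQ.mul v z A w y B).symm

end CfsgLib.HeisenbergSL
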