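import Cfsg.Agent.HeisenbergSL.Small
import Cfsg.Agent.PLocal.Cores
import Cfsg.Prelude.Def_Transfer

/-!
# The action of `3^{1+2}.SL(2,3)` on its largest normal 3-subgroup
-/

set_option autoImplicit false

namespace CfsgLib.HeisenbergSL

open Matrix

variable {X : Type*} [Group X]

/-- Powers with exponent in `ZMod 3`. -/
def pw (ζ : X) (k : ZMod 3) : X := ζ ^ k.val

/-- Coordinates on `R = 3^{1+2}` inside `X` and the resulting map to `SL(2,3)`. -/
structure Frame (X : Type*) [Group X] where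
  R : Subgroup X
  ζ : X
  f : X → Fin 2 → ZMod 3
  ρ : X →* SL23
  zeta_mem : ζ ∈ R
  zeta_pow : ζ ^ 3 = 1
  zeta_ne : ζ ≠ 1
  zeta_cen : ∀ x : X, x * ζ = ζ * x
  card_R : Nat.card R = 27
  pow_three : ∀ r ∈ R, r ^ 3 = 1
  f_mul : ∀ r ∈ R, ∀ s ∈ R, f (r * s) = f r + f s
  f_eq_zero : ∀ r ∈ R, f r = 0 ↔ ∃ k, r = pw ζ k
  f_surj : ∀ v, ∃ r ∈ R, f r = v
  comm : ∀ r ∈ R, ∀ s ∈ R, r * s = pw ζ (det2 (f r) (f s)) * (s * r)
  conj_mem : ∀ x : X, ∀ r ∈ R, x * r * x⁻¹ ∈ R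
  action : ∀ x : X, ∀ r ∈ R, f (x * r * x⁻¹) = (ρ x).1 *ᵥ f r
  ker_eq : ∀ x : X, ρ x = 1 ↔ x ∈ R
  surj : Function.Surjective ρ

theorem pw_add {ζ : X} (h : ζ ^ 3 = 1) (k l : ZMod 3) : pw ζ (k + l) = pw ζ k * pw ζ l := by
  rw [pw, pw, pw, ← pow_add, ZMod.val_add]
  exact (pow_eq_pow_mod _ h).symm

theorem pw_zero (ζ : X) : pw ζ 0 = 1 := by simp [pw]

theorem pw_one (ζ : X) : pw ζ 1 = ζ := by
  rw [pw, show (1 : ZMod 3).val = 1 from rfl, pow_one]

theorem pw_neg {ζ : X} (h : ζ ^ 3 = 1) (k : ZMod 3) : pw ζ (-k) = (pw ζ k)⁻¹ := by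
  refine eq_inv_of_mul_eq_one_left ?_
  rw [← pw_add h, neg_add_cancel, pw_zero]

theorem pw_pow {ζ : X} (h : ζ ^ 3 = 1) (k : ZMod 3) (n : ℕ) : pw ζ k ^ n = pw ζ (n * k) := by
  induction n with
  | zero => simp [pw_zero]
  | succ n ih => rw [pow_succ, ih, ← pw_add h, Nat.cast_succ, add_mul, one_mul]

theorem pw_injective {ζ : X} (h : ζ ^ 3 = 1) (h1 : ζ ≠ 1) : Function.Injective (pw ζ) := by
  have : Fact (Nat.Prime 3) := ⟨Nat.prime_three⟩
  intro k l hkl
  have ho : orderOf ζ = 3 := orderOf_eq_prime h h1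
  have := pow_inj_mod.1 (hkl : ζ ^ k.val = ζ ^ l.val)
  rw [ho, Nat.mod_eq_of_lt k.val_lt, Nat.mod_eq_of_lt l.val_lt] at this
  exact ZMod.val_injective 3 this

theorem pw_mem {ζ : X} {H : Subgroup X} (h : ζ ∈ H) (k : ZMod 3) : pw ζ k ∈ H := H.pow_mem h _

theorem pw_comm {ζ : X} (h : ∀ x : X, x * ζ = ζ * x) (x : X) (k : ZMod 3) :
    x * pw ζ k = pw ζ k * x :=
  Commute.pow_right (h x) _

theorem ne_zero_cases : ∀ a : ZMod 3, a ≠ 0 → a = 1 ∨ a = -1 := by decide

theorem zmod_three_cases : ∀ a : ZMod 3, a = 0 ∨ a = 1 ∨ a = 2 := by decide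

theorem add_self_eq_zero_three : ∀ a : ZMod 3, a + a = 0 → a = 0 := by decide

variable [Finite X]

/-- The frame of a group of shape `3^{1+2}.SL(2,3)` with trivial 2-core. -/
theorem exists_frame (hR : Cfsg.IsExtraspecial 3 (Cfsg.pCore 3 X))
    (hRcard : Nat.card (Cfsg.pCore 3 X) = 27) (hRexp : ∀ r ∈ Cfsg.pCore 3 X, r ^ 3 = 1)
    (e : X ⧸ Cfsg.pCore 3 X ≃* SL23) (hO2 : Cfsg.pCore 2 X = ⊥) :
    ∃ F : Frame X, F.R = Cfsg.pCore 3 X := by
  classical
  have : Fact (Nat.Prime 3) := ⟨Nat.prime_three⟩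
  set R := Cfsg.pCore 3 X
  have hconj : ∀ x : X, ∀ r ∈ R, x * r * x⁻¹ ∈ R := fun x r hr =>
    (inferInstance : R.Normal).conj_mem r hr x
  set Z := Subgroup.center R with hZdef
  have hZcard : Nat.card Z = 3 := hR.2
  obtain ⟨⟨ζR, hζZ⟩, hζ1⟩ : ∃ z : Z, z ≠ 1 := by
    have : Nontrivial Z := by
      rw [← Finite.one_lt_card_iff_nontrivial, hZcard]
      norm_num
    exact exists_ne 1
  set ζ : X := (ζR : X) with hζdef
  have hζmem : ζ ∈ R := ζR.2
  have hζ3 : ζ ^ 3 = 1 := hRexp ζ hζmem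
  have hζne : ζ ≠ 1 := fun h => hζ1 (Subtype.ext (Subtype.ext h))
  have hζR : ∀ r ∈ R, r * ζ = ζ * r := fun r hr =>
    congrArg Subtype.val (Subgroup.mem_center_iff.1 hζZ ⟨r, hr⟩)
  have hZ : ∀ z ∈ R, (∀ r ∈ R, r * z = z * r) → ∃ k, z = pw ζ k := by
    intro z hz hzc
    let g : ZMod 3 → Z := fun k => ⟨⟨pw ζ k, pw_mem hζmem k⟩,
      Subgroup.mem_center_iff.2 fun r => Subtype.ext (Commute.pow_right (hζR r r.2) _)⟩
    have hg : Function.Injective g := fun a b hab =>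
      pw_injective hζ3 hζne (congrArg (fun y : Z => ((y : R) : X)) hab)
    have hb := (Nat.bijective_iff_injective_and_card g).2 ⟨hg, by rw [hZcard, Nat.card_zmod]⟩
    obtain ⟨k, hk⟩ := hb.2 ⟨⟨z, hz⟩, Subgroup.mem_center_iff.2 fun r => Subtype.ext (hzc r r.2)⟩
    exact ⟨k, (congrArg (fun y : Z => ((y : R) : X)) hk).symm⟩
  -- commutators are central
  have hcom : ∀ r ∈ R, ∀ s ∈ R, ∃ k, r * s = pw ζ k * (s * r) := by
    intro r hr s hs
    have hidx : Nat.card (R ⧸ Z) = 3 ^ 2 := by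
      have h := Subgroup.card_eq_card_quotient_mul_card_subgroup Z
      rw [hRcard, hZcard] at h
      omega
    have hq := IsPGroup.commutative_of_card_eq_prime_sq hidx
      (QuotientGroup.mk ⟨r, hr⟩) (QuotientGroup.mk ⟨s, hs⟩)
    rw [← QuotientGroup.mk_mul, ← QuotientGroup.mk_mul, eq_comm, QuotientGroup.eq,
      Subgroup.mem_center_iff] at hq
    obtain ⟨k, hk⟩ := hZ _ (R.mul_mem (R.inv_mem (R.mul_mem hs hr)) (R.mul_mem hr hs))
      fun u hu => congrArg Subtype.val (hq ⟨u, hu⟩)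
    refine ⟨k, ?_⟩
    calc r * s = s * r * ((s * r)⁻¹ * (r * s)) := by group
      _ = s * r * pw ζ k := by rw [hk]
      _ = _ := Commute.pow_right (hζR _ (R.mul_mem hs hr)) _
  choose φ hφ using hcom
  have hφu : ∀ r (hr : r ∈ R) s (hs : s ∈ R) k, r * s = pw ζ k * (s * r) → φ r hr s hs = k := by
    intro r hr s hs k hk
    exact pw_injective hζ3 hζne (mul_right_cancel ((hφ r hr s hs).symm.trans hk))
  have hpc : ∀ r ∈ R, ∀ k, r * pw ζ k = pw ζ k * r := fun r hr k =>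
    Commute.pow_right (hζR r hr) _
  have hφl : ∀ r hr r' hr' s hs, φ (r * r') (R.mul_mem hr hr') s hs = φ r hr s hs + φ r' hr' s hs := by
    intro r hr r' hr' s hs
    refine hφu _ _ _ _ _ ?_
    calc r * r' * s = r * (r' * s) := by group
      _ = r * pw ζ (φ r' hr' s hs) * (s * r') := by rw [hφ r' hr' s hs]; group
      _ = pw ζ (φ r' hr' s hs) * (r * s) * r' := by rw [hpc r hr]; group
      _ = _ := by rw [hφ r hr s hs, pw_add hζ3]; rw [show Commute (pw ζ (φ r hr s hs))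
            (pw ζ (φ r' hr' s hs)) from (Commute.refl ζ).pow_pow _ _]; group
  have hφr : ∀ r hr s hs, φ r hr s hs = - φ s hs r hr := by
    intro r hr s hs
    refine hφu _ _ _ _ _ ?_
    rw [hφ s hs r hr, ← mul_assoc, ← pw_add hζ3, neg_add_cancel, pw_zero, one_mul]
  have hφs : ∀ r hr, φ r hr r hr = 0 := fun r hr => hφu _ _ _ _ _ (by rw [pw_zero, one_mul])
  -- a generating pair
  obtain ⟨r₁, hr₁, r₂, hr₂, h12⟩ : ∃ r hr s hs, φ r hr s hs = 1 := by
    obtain ⟨r, hr, s, hs, hne⟩ : ∃ r hr s hs, φ r hr s hs ≠ 0 := by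
      by_contra hall
      push Not at hall
      have htop : Z = ⊤ := eq_top_iff.2 fun z _ => Subgroup.mem_center_iff.2 fun u =>
        Subtype.ext (by
          have := hφ (u : X) u.2 (z : X) z.2
          rwa [hall, pw_zero, one_mul] at this)
      rw [htop, Subgroup.card_top, hRcard] at hZcard
      omega
    rcases (show φ r hr s hs = 1 ∨ φ r hr s hs = -1 from
      ne_zero_cases _ hne) with h | h
    · exact ⟨r, hr, s, hs, h⟩
    · exact ⟨s, hs, r, hr, by rw [hφr, h, neg_neg]⟩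
  let f : X → Fin 2 → ZMod 3 := fun r =>
    if hr : r ∈ R then ![φ r hr r₂ hr₂, φ r₁ hr₁ r hr] else 0
  have hf : ∀ r hr, f r = ![φ r hr r₂ hr₂, φ r₁ hr₁ r hr] := fun r hr => dif_pos hr
  have hfmul : ∀ r ∈ R, ∀ s ∈ R, f (r * s) = f r + f s := by
    intro r hr s hs
    rw [hf _ (R.mul_mem hr hs), hf r hr, hf s hs]
    ext i
    fin_cases i
    · simp only [Fin.zero_eta, Matrix.cons_val_zero, Pi.add_apply]
      exact hφl _ hr _ hs _ _
    · simp only [Fin.mk_one, Matrix.cons_val_one, Matrix.cons_val_fin_one, Pi.add_apply]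
      rw [hφr, hφl r hr s hs r₁ hr₁, hφr r hr, hφr s hs]
      ring
  have hfpw : ∀ k, f (pw ζ k) = 0 := by
    intro k
    rw [hf _ (pw_mem hζmem k)]
    ext i
    fin_cases i
    · simp only [Fin.zero_eta, Matrix.cons_val_zero, Pi.zero_apply]
      exact hφu _ _ _ _ _ (by rw [pw_zero, one_mul, hpc r₂ hr₂])
    · simp only [Fin.mk_one, Matrix.cons_val_one, Matrix.cons_val_fin_one, Pi.zero_apply]
      exact hφu _ _ _ _ _ (by rw [pw_zero, one_mul, hpc r₁ hr₁])
  have hf1 : f r₁ = ![1, 0] := by rw [hf r₁ hr₁, h12, hφs]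
  have hf2 : f r₂ = ![0, 1] := by rw [hf r₂ hr₂, h12, hφs]
  have hfpow : ∀ r ∈ R, ∀ n : ℕ, f (r ^ n) = (n : ZMod 3) • f r := by
    intro r hr n
    induction n with
    | zero => rw [pow_zero, ← pw_zero ζ, hfpw, Nat.cast_zero, zero_smul]
    | succ n ih => rw [pow_succ, hfmul _ (R.pow_mem hr n) _ hr, ih, Nat.cast_succ, add_smul, one_smul]
  have hfsurj : ∀ v, ∃ r ∈ R, f r = v := by
    intro v
    refine ⟨r₁ ^ (v 0).val * r₂ ^ (v 1).val, R.mul_mem (R.pow_mem hr₁ _) (R.pow_mem hr₂ _), ?_⟩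
    rw [hfmul _ (R.pow_mem hr₁ _) _ (R.pow_mem hr₂ _), hfpow _ hr₁, hfpow _ hr₂, hf1, hf2,
      ZMod.natCast_zmod_val, ZMod.natCast_zmod_val]
    ext i
    fin_cases i <;> simp
  have hfz : ∀ r ∈ R, f r = 0 ↔ ∃ k, r = pw ζ k := by
    intro r hr
    refine ⟨fun h => ?_, fun ⟨k, hk⟩ => hk ▸ hfpw k⟩
    let F' : R →* Multiplicative (Fin 2 → ZMod 3) :=
      { toFun := fun u => Multiplicative.ofAdd (f u)
        map_one' := by rw [Subgroup.coe_one, ← pw_zero ζ, hfpw]; rfl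
        map_mul' := fun u w => by rw [Subgroup.coe_mul, hfmul _ u.2 _ w.2]; rfl }
    have hle : Z ≤ F'.ker := by
      intro u hu
      obtain ⟨k, hk⟩ := hZ u u.2 fun w hw =>
        congrArg Subtype.val (Subgroup.mem_center_iff.1 hu ⟨w, hw⟩)
      rw [MonoidHom.mem_ker]
      show Multiplicative.ofAdd (f u) = 1
      rw [hk, hfpw]; rfl
    have hcard : Nat.card F'.ker = 3 := by
      have hs : Function.Surjective F' := fun v => by
        obtain ⟨u, hu, e⟩ := hfsurj v.toAdd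
        exact ⟨⟨u, hu⟩, by show Multiplicative.ofAdd (f u) = v; rw [e]; rfl⟩
      have h1 := F'.ker.index_mul_card
      rw [Subgroup.index_ker, MonoidHom.range_eq_top.2 hs, Subgroup.card_top, hRcard,
        Nat.card_congr Multiplicative.toAdd, Nat.card_fun, Nat.card_zmod, Nat.card_eq_fintype_card,
        Fintype.card_fin] at h1
      omega
    have heq := Subgroup.eq_of_le_of_card_ge hle (by rw [hcard, hZcard])
    have hmem : (⟨r, hr⟩ : R) ∈ Z := by
      rw [heq, MonoidHom.mem_ker]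
      show Multiplicative.ofAdd (f r) = 1
      rw [h]; rfl
    exact hZ r hr fun w hw => congrArg Subtype.val (Subgroup.mem_center_iff.1 hmem ⟨w, hw⟩)
  have hdec : ∀ r ∈ R, ∃ a b : ℕ, ∃ k, r = r₁ ^ a * r₂ ^ b * pw ζ k ∧
      (a : ZMod 3) = f r 0 ∧ (b : ZMod 3) = f r 1 := by
    intro r hr
    obtain ⟨u, hu, hfu⟩ : ∃ u ∈ R, u = r₁ ^ (f r 0).val * r₂ ^ (f r 1).val :=
      ⟨_, R.mul_mem (R.pow_mem hr₁ _) (R.pow_mem hr₂ _), rfl⟩
    have hu' : f u = f r := by
      rw [hfu, hfmul _ (R.pow_mem hr₁ _) _ (R.pow_mem hr₂ _), hfpow _ hr₁, hfpow _ hr₂, hf1, hf2,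
        ZMod.natCast_zmod_val, ZMod.natCast_zmod_val]
      ext i
      fin_cases i <;> simp
    have h0 : f (u⁻¹ * r) = 0 := by
      have h := hfmul u hu _ (R.mul_mem (R.inv_mem hu) hr)
      rw [mul_inv_cancel_left, hu'] at h
      exact left_eq_add.1 h
    obtain ⟨k, hk⟩ := (hfz _ (R.mul_mem (R.inv_mem hu) hr)).1 h0
    refine ⟨(f r 0).val, (f r 1).val, k, ?_, ZMod.natCast_zmod_val _, ZMod.natCast_zmod_val _⟩
    rw [← hfu, ← hk, mul_inv_cancel_left]
  have hcomm : ∀ r ∈ R, ∀ s ∈ R, r * s = pw ζ (det2 (f r) (f s)) * (s * r) := by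
    intro r hr s hs
    suffices h : φ r hr s hs = det2 (f r) (f s) by rw [← h]; exact hφ r hr s hs
    obtain ⟨a, b, k, rfl, ha, hb⟩ := hdec r hr
    have hpow : ∀ (u : X) (hu : u ∈ R) (n : ℕ),
        φ (u ^ n) (R.pow_mem hu n) s hs = (n : ZMod 3) * φ u hu s hs := by
      intro u hu n
      induction n with
      | zero =>
        rw [Nat.cast_zero, zero_mul]
        exact hφu _ _ _ _ _ (by simp [pw_zero])
      | succ n ih =>
        simp only [pow_succ]
        rw [hφl _ (R.pow_mem hu n) _ hu, ih, Nat.cast_succ, add_mul, one_mul]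
    rw [hφl _ (R.mul_mem (R.pow_mem hr₁ a) (R.pow_mem hr₂ b)) _ (pw_mem hζmem k),
      hφl _ (R.pow_mem hr₁ a) _ (R.pow_mem hr₂ b), hpow _ hr₁, hpow _ hr₂,
      hφu (pw ζ k) (pw_mem hζmem k) s hs 0 (by rw [pw_zero, one_mul, hpc s hs]), ha, hb]
    rw [det2, hφr r₂ hr₂ s hs, show φ r₁ hr₁ s hs = f s 1 by rw [hf s hs]; rfl,
      show φ s hs r₂ hr₂ = f s 0 by rw [hf s hs]; rfl]
    ring
  -- the centre is central in `X`
  let π : X →* SL23 := e.toMonoidHom.comp (QuotientGroup.mk' R)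
  have hπker : ∀ x, π x = 1 ↔ x ∈ R := fun x => by
    simp [π]
  have hπsurj : Function.Surjective π := e.surjective.comp (QuotientGroup.mk'_surjective R)
  have hζX : ∀ x : X, x * ζ = ζ * x := by
    have hsq : ∀ y : X, y * ζ * y⁻¹ = pw ζ 1 ∨ y * ζ * y⁻¹ = pw ζ 2 := by
      intro y
      obtain ⟨k, hk⟩ := hZ (y * ζ * y⁻¹) (hconj y ζ hζmem) fun r hr => by
        have h := hζR _ (hconj y⁻¹ r hr)
        calc r * (y * ζ * y⁻¹) = y * ((y⁻¹ * r * (y⁻¹)⁻¹) * ζ) * y⁻¹ := by group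
          _ = _ := by rw [h]; group
      rcases zmod_three_cases k with rfl | rfl | rfl
      · exact absurd (conj_eq_one_iff.1 (hk.trans (pw_zero ζ))) hζne
      · exact Or.inl hk
      · exact Or.inr hk
    let K : Subgroup X := Subgroup.centralizer {ζ}
    have hK : ∀ x : X, x ∈ K ↔ x * ζ = ζ * x := fun x => Subgroup.mem_centralizer_singleton_iff
    have hsqK : ∀ y : X, y * y ∈ K := by
      intro y
      rw [hK, ← mul_inv_eq_iff_eq_mul]
      rcases hsq y with h | h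
      · calc y * y * ζ * (y * y)⁻¹ = y * (y * ζ * y⁻¹) * y⁻¹ := by group
          _ = ζ := by rw [h, pw_one, h.trans (pw_one ζ)]
      · calc y * y * ζ * (y * y)⁻¹ = y * (y * ζ * y⁻¹) * y⁻¹ := by group
          _ = y * ζ ^ 2 * y⁻¹ := by rw [h]; rfl
          _ = (y * ζ * y⁻¹) ^ 2 := conj_pow.symm
          _ = pw ζ 4 := by rw [h, pw_pow hζ3]; rfl
          _ = ζ := pw_one ζ
    have hmap : K.map π = ⊤ := eq_top_of_squares _ fun g => by
      obtain ⟨y, rfl⟩ := hπsurj g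
      exact ⟨y * y, hsqK y, map_mul π y y⟩
    intro x
    obtain ⟨k, hk, hkx⟩ : π x ∈ K.map π := hmap ▸ Subgroup.mem_top _
    have hr : k⁻¹ * x ∈ R := (hπker _).1 (by rw [map_mul, map_inv, hkx, inv_mul_cancel])
    rw [← hK, show x = k * (k⁻¹ * x) by group]
    exact K.mul_mem hk ((hK _).2 (hζR _ hr))
  -- the matrices
  let M : X → Matrix (Fin 2) (Fin 2) (ZMod 3) := fun x =>
    !![f (x * r₁ * x⁻¹) 0, f (x * r₂ * x⁻¹) 0; f (x * r₁ * x⁻¹) 1, f (x * r₂ * x⁻¹) 1]
  have hact : ∀ x : X, ∀ r ∈ R, f (x * r * x⁻¹) = M x *ᵥ f r := by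
    intro x r hr
    obtain ⟨a, b, k, hrk, ha, hb⟩ := hdec r hr
    have e1 : x * r * x⁻¹ = (x * r₁ * x⁻¹) ^ a * (x * r₂ * x⁻¹) ^ b * pw ζ k := by
      have e0 : x * pw ζ k * x⁻¹ = pw ζ k := by rw [pw_comm hζX, mul_inv_cancel_right]
      calc x * r * x⁻¹ = (x * r₁ ^ a * x⁻¹) * (x * r₂ ^ b * x⁻¹) * (x * pw ζ k * x⁻¹) := by
            rw [hrk]; group
        _ = _ := by rw [e0, conj_pow, conj_pow]
    rw [e1, hfmul _ (R.mul_mem (R.pow_mem (hconj x _ hr₁) a) (R.pow_mem (hconj x _ hr₂) b)) _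
        (pw_mem hζmem k), hfmul _ (R.pow_mem (hconj x _ hr₁) a) _ (R.pow_mem (hconj x _ hr₂) b),
      hfpow _ (hconj x _ hr₁), hfpow _ (hconj x _ hr₂), hfpw, add_zero, ha, hb]
    ext i
    fin_cases i <;> simp [M, Matrix.mulVec, dotProduct, Fin.sum_univ_two] <;> ring
  have hdet : ∀ x, (M x).det = 1 := by
    intro x
    have h := hcomm r₁ hr₁ r₂ hr₂
    have h2 : det2 (f r₁) (f r₂) = 1 := by simp [det2, hf1, hf2]
    rw [h2] at h
    have h3 := hcomm _ (hconj x _ hr₁) _ (hconj x _ hr₂)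
    have h4 : (x * r₁ * x⁻¹) * (x * r₂ * x⁻¹) = pw ζ 1 * ((x * r₂ * x⁻¹) * (x * r₁ * x⁻¹)) := by
      calc (x * r₁ * x⁻¹) * (x * r₂ * x⁻¹) = x * (r₁ * r₂) * x⁻¹ := by group
        _ = (x * pw ζ 1) * (r₂ * r₁) * x⁻¹ := by rw [h]; group
        _ = _ := by rw [pw_comm hζX]; group
    have h5 := pw_injective hζ3 hζne (mul_right_cancel (h3.symm.trans h4))
    rw [Matrix.det_fin_two, ← h5]
    simp [M, det2]
    ring
  let ρ : X →* SL23 := MonoidHom.mk' (fun x => ⟨M x, hdet x⟩) fun x y => by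
    apply Subtype.ext
    show M (x * y) = M x * M y
    refine Matrix.ext_iff_mulVec.2 fun v => ?_
    obtain ⟨r, hr, rfl⟩ := hfsurj v
    rw [← hact _ r hr, ← Matrix.mulVec_mulVec, ← hact y r hr, ← hact x _ (hconj y r hr)]
    congr 1
    group
  have hρR : ∀ x ∈ R, ρ x = 1 := by
    intro x hx
    apply Subtype.ext
    refine Matrix.ext_iff_mulVec.2 fun v => ?_
    obtain ⟨r, hr, rfl⟩ := hfsurj v
    show M x *ᵥ f r = _
    rw [← hact x r hr, Matrix.SpecialLinearGroup.coe_one, Matrix.one_mulVec]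
    rw [show x * r * x⁻¹ = pw ζ (det2 (f x) (f r)) * r by rw [hcomm x hx r hr]; group]
    rw [hfmul _ (pw_mem hζmem _) _ hr, hfpw, zero_add]
  have hker : ∀ x, ρ x = 1 ↔ x ∈ R := by
    refine fun x => ⟨fun hx => by_contra fun hxR => ?_, hρR x⟩
    have hnorm : (ρ.ker.map π).Normal := Subgroup.Normal.map inferInstance _ hπsurj
    obtain ⟨k, hk, hkneg⟩ : negOne ∈ ρ.ker.map π :=
      negOne_mem _ ⟨x, hx, rfl⟩ fun h => hxR ((hπker x).1 h)
    set j := k ^ 27 with hjdef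
    have hjneg : π j = negOne := by rw [hjdef, map_pow, hkneg]; decide +kernel
    have hjj : j * j = 1 := by
      have h2 : k * k ∈ R := (hπker _).1 (by rw [map_mul, hkneg]; decide +kernel)
      have h3 := pow_card_eq_one' (G := R) (x := ⟨k * k, h2⟩)
      rw [hRcard] at h3
      have h4 := congrArg Subtype.val h3
      simp only [SubmonoidClass.coe_pow, Subgroup.coe_one] at h4
      rw [hjdef, ← pow_add, show (27 + 27 : ℕ) = 2 * 27 from rfl, pow_mul, pow_two, h4]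
    have hjρ : ρ j = 1 := by
      rw [hjdef, map_pow, MonoidHom.mem_ker.1 hk, one_pow]
    have hjc : ∀ r ∈ R, j * r * j⁻¹ = r := by
      intro r hr
      have h1 : f (j * r * j⁻¹) = f r := by
        rw [hact j r hr, show M j = (ρ j).1 from rfl, hjρ, Matrix.SpecialLinearGroup.coe_one,
          Matrix.one_mulVec]
      have h2 : f (j * r * j⁻¹ * r⁻¹) = 0 := by
        have h := hfmul _ (R.mul_mem (hconj j r hr) (R.inv_mem hr)) r hr
        rw [inv_mul_cancel_right, h1] at h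
        exact right_eq_add.1 h
      obtain ⟨m, hm⟩ := (hfz _ (R.mul_mem (hconj j r hr) (R.inv_mem hr))).1 h2
      have e1 : j * r * j⁻¹ = pw ζ m * r := by rw [← hm]; group
      have e2 : r = pw ζ (m + m) * r := by
        calc r = (j * j) * r * (j * j)⁻¹ := by rw [hjj]; group
          _ = j * (j * r * j⁻¹) * j⁻¹ := by group
          _ = (j * pw ζ m) * r * j⁻¹ := by rw [e1]; group
          _ = pw ζ m * (j * r * j⁻¹) := by rw [pw_comm hζX]; group
          _ = _ := by rw [e1, pw_add hζ3]; group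
      have e3 : m + m = 0 := pw_injective hζ3 hζne (by rw [pw_zero]; exact right_eq_mul.1 e2)
      rw [e1, add_self_eq_zero_three m e3, pw_zero, one_mul]
    have hcen : ∀ y : X, y * j * y⁻¹ = j := by
      intro y
      set j' := y * j * y⁻¹ with hj'
      have hπ' : π j' = π j := by
        rw [hj', map_mul, map_mul, hjneg, map_inv]
        have hc : π y * negOne = negOne * π y := by
          have : ∀ g : SL23, g * negOne = negOne * g := fun g => by
            apply Subtype.ext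
            simp only [Matrix.SpecialLinearGroup.coe_mul]
            ext i j
            fin_cases i <;> fin_cases j <;> simp [negOne, Matrix.mul_apply, Fin.sum_univ_two]
          exact this _
        rw [hc, mul_inv_cancel_right]
      have hq : j⁻¹ * j' ∈ R := (hπker _).1 (by rw [map_mul, map_inv, hπ', inv_mul_cancel])
      have hc' : ∀ r ∈ R, j' * r = r * j' := by
        intro r hr
        have h := hjc _ (hconj y⁻¹ r hr)
        rw [mul_inv_eq_iff_eq_mul] at h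
        calc j' * r = y * (j * (y⁻¹ * r * (y⁻¹)⁻¹)) * y⁻¹ := by rw [hj']; group
          _ = _ := by rw [h, hj']; group
      obtain ⟨m, hm⟩ := hZ _ hq fun r hr => by
        have h := hjc r hr
        rw [mul_inv_eq_iff_eq_mul] at h
        calc r * (j⁻¹ * j') = j⁻¹ * (j * r) * j⁻¹ * j' := by group
          _ = j⁻¹ * (r * j) * j⁻¹ * j' := by rw [h]
          _ = j⁻¹ * (r * j') := by group
          _ = _ := by rw [← hc' r hr]; group
      have e1 : j' = j * pw ζ m := by rw [← hm]; group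
      have hj2 : j' * j' = 1 := by
        calc j' * j' = y * (j * j) * y⁻¹ := by rw [hj']; group
          _ = 1 := by rw [hjj]; group
      have e2 : pw ζ (m + m) = 1 := by
        calc pw ζ (m + m) = (j * j) * (pw ζ m * pw ζ m) := by rw [hjj, one_mul, pw_add hζ3]
          _ = j * (j * pw ζ m) * pw ζ m := by group
          _ = j * (pw ζ m * j) * pw ζ m := by rw [pw_comm hζX j m]
          _ = j' * j' := by rw [e1]; group
          _ = 1 := hj2
      rw [e1, add_self_eq_zero_three m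
        (pw_injective hζ3 hζne (e2.trans (pw_zero ζ).symm)), pw_zero, mul_one]
    have : Fact (Nat.Prime 2) := ⟨Nat.prime_two⟩
    have hjne : j ≠ 1 := fun h => by
      rw [h, map_one] at hjneg
      exact absurd hjneg (by decide +kernel)
    have hjn : (Subgroup.zpowers j).Normal := ⟨fun z hz y => by
      obtain ⟨n, rfl⟩ := hz
      rw [← conj_zpow, hcen]
      exact ⟨n, rfl⟩⟩
    have hp : IsPGroup 2 (Subgroup.zpowers j) := IsPGroup.of_card (n := 1) (by
      rw [Nat.card_zpowers, pow_one]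
      exact orderOf_eq_prime (by rw [pow_two, hjj]) hjne)
    have := CfsgLib.PLocal.le_pCore hp (Subgroup.mem_zpowers j)
    rw [hO2, Subgroup.mem_bot] at this
    exact hjne this
  refine ⟨⟨R, ζ, f, ρ, hζmem, hζ3, hζne, hζX, hRcard, hRexp, hfmul, hfz, hfsurj, hcomm, hconj,
    hact, hker, ?_⟩, rfl⟩
  have hρker : ρ.ker = R := Subgroup.ext fun x => MonoidHom.mem_ker.trans (hker x)
  have hcard : Nat.card (X ⧸ R) = Nat.card SL23 := Nat.card_congr e.toEquiv
  rw [← MonoidHom.range_eq_top]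
  refine Subgroup.eq_top_of_card_eq _ ?_
  rw [← hcard, ← Subgroup.index_ker, hρker, Subgroup.index_eq_card]

end CfsgLib.HeisenbergSL
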