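import Cfsg.Agent.HeisenbergSL.Coord
import Cfsg.Agent.Linear.Basic

/-!
# Facts on `SL(2,3)`
-/

set_option autoImplicit false

namespace CfsgLib.HeisenbergSL

open Matrix

/-- `-1` in `SL(2,3)`. -/
def negOne : SL23 := ⟨!![-1, 0; 0, -1], by decide⟩

/-- An upper transvection. -/
def upper (x : ZMod 3) : SL23 := ⟨!![1, x; 0, 1], by simp [Matrix.det_fin_two]⟩

/-- A lower transvection. -/
def lower (x : ZMod 3) : SL23 := ⟨!![1, 0; x, 1], by simp [Matrix.det_fin_two]⟩

theorem word_entries : ∀ a b c d : ZMod 3, a * d - b * c = 1 → ∃ x y z w : ZMod 3,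
    (1 + x * y) * (1 + z * w) + x * w = a ∧ (1 + x * y) * z + x = b ∧
      y * (1 + z * w) + w = c ∧ y * z + 1 = d := by
  decide +kernel

theorem eq_top_of_squares (K : Subgroup SL23) (h : ∀ g : SL23, g * g ∈ K) : K = ⊤ := by
  have hu : ∀ x, upper x ∈ K := fun x => by
    have e : upper x = upper (2 * x) * upper (2 * x) := by
      apply Subtype.ext
      revert x
      decide +kernel
    rw [e]
    exact h _
  have hl : ∀ x, lower x ∈ K := fun x => by
    have e : lower x = lower (2 * x) * lower (2 * x) := by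
      apply Subtype.ext
      revert x
      decide +kernel
    rw [e]
    exact h _
  refine eq_top_iff.2 fun g _ => ?_
  have hdet : g.1 0 0 * g.1 1 1 - g.1 0 1 * g.1 1 0 = 1 := by
    rw [← Matrix.det_fin_two]
    exact g.2
  obtain ⟨x, y, z, w, h1, h2, h3, h4⟩ := word_entries _ _ _ _ hdet
  have e : g = upper x * lower y * (upper z * lower w) := by
    apply Subtype.ext
    simp only [Matrix.SpecialLinearGroup.coe_mul]
    ext i j
    fin_cases i <;> fin_cases j <;>
      simp [upper, lower, Matrix.mul_apply, Fin.sum_univ_two, ← h1, ← h2, ← h3, ← h4] <;> ring1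
  rw [e]
  exact K.mul_mem (K.mul_mem (hu x) (hl y)) (K.mul_mem (hu z) (hl w))

theorem power_entries : ∀ a b c d : ZMod 3, a * d - b * c = 1 → !![a, b; c, d] ≠ (1 : Matrix (Fin 2) (Fin 2) (ZMod 3)) →
    let g := !![a, b; c, d]
    let gi := !![d, -b; -c, a]
    let n : Matrix (Fin 2) (Fin 2) (ZMod 3) := !![-1, 0; 0, -1]
    let cu := g * !![1, 1; 0, 1] * gi * !![1, -1; 0, 1]
    let cl := g * !![1, 0; 1, 1] * gi * !![1, 0; -1, 1]
    g = n ∨ g * g = n ∨ g * g * g = n ∨ cu = n ∨ cu * cu = n ∨ cl = n ∨ cl * cl = n := by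
  decide +kernel

theorem negOne_mem (K : Subgroup SL23) [hK : K.Normal] {g : SL23} (hg : g ∈ K) (h1 : g ≠ 1) :
    negOne ∈ K := by
  obtain ⟨M, hM⟩ := g
  obtain ⟨a, b, c, d, rfl⟩ : ∃ a b c d, M = !![a, b; c, d] :=
    ⟨M 0 0, M 0 1, M 1 0, M 1 1, Matrix.eta_fin_two M⟩
  set g : SL23 := ⟨!![a, b; c, d], hM⟩ with hgdef
  have hdet : a * d - b * c = 1 := by rw [← hM, Matrix.det_fin_two_of]
  have hne : !![a, b; c, d] ≠ (1 : Matrix (Fin 2) (Fin 2) (ZMod 3)) := fun e => h1 (Subtype.ext e)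
  have hinv : (g⁻¹ : SL23).1 = !![d, -b; -c, a] := by
    rw [Matrix.SpecialLinearGroup.coe_inv, Matrix.adjugate_fin_two]
    simp [hgdef]
  have hcomm : ∀ u : SL23, g * u * g⁻¹ * u⁻¹ ∈ K := fun u => by
    rw [show g * u * g⁻¹ * u⁻¹ = g * (u * g⁻¹ * u⁻¹) by group]
    exact K.mul_mem hg (hK.conj_mem _ (K.inv_mem hg) u)
  have hiu : ∀ x : ZMod 3, ((upper x)⁻¹ : SL23).1 = !![1, -x; 0, 1] := fun x => by
    rw [Matrix.SpecialLinearGroup.coe_inv, Matrix.adjugate_fin_two]
    simp [upper]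
  have hil : ∀ x : ZMod 3, ((lower x)⁻¹ : SL23).1 = !![1, 0; -x, 1] := fun x => by
    rw [Matrix.SpecialLinearGroup.coe_inv, Matrix.adjugate_fin_two]
    simp [lower]
  have hcu : (g * upper 1 * g⁻¹ * (upper 1)⁻¹ : SL23).1 =
      !![a, b; c, d] * !![1, 1; 0, 1] * !![d, -b; -c, a] * !![1, -1; 0, 1] := by
    simp only [Matrix.SpecialLinearGroup.coe_mul, hinv, hiu]
    rfl
  have hcl : (g * lower 1 * g⁻¹ * (lower 1)⁻¹ : SL23).1 =
      !![a, b; c, d] * !![1, 0; 1, 1] * !![d, -b; -c, a] * !![1, 0; -1, 1] := by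
    simp only [Matrix.SpecialLinearGroup.coe_mul, hinv, hil]
    rfl
  have key : ∀ k : SL23, k ∈ K → k.1 = !![-1, 0; 0, -1] → negOne ∈ K := fun k hk e => by
    rw [show negOne = k from Subtype.ext e.symm]
    exact hk
  rcases power_entries a b c d hdet hne with e | e | e | e | e | e | e
  · exact key g hg e
  · exact key (g * g) (K.mul_mem hg hg) (by rw [Matrix.SpecialLinearGroup.coe_mul]; exact e)
  · exact key (g * g * g) (K.mul_mem (K.mul_mem hg hg) hg)
      (by rw [Matrix.SpecialLinearGroup.coe_mul, Matrix.SpecialLinearGroup.coe_mul]; exact e)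
  · exact key _ (hcomm (upper 1)) (hcu.trans e)
  · exact key _ (K.mul_mem (hcomm (upper 1)) (hcomm (upper 1)))
      (by rw [Matrix.SpecialLinearGroup.coe_mul, hcu]; exact e)
  · exact key _ (hcomm (lower 1)) (hcl.trans e)
  · exact key _ (K.mul_mem (hcomm (lower 1)) (hcomm (lower 1)))
      (by rw [Matrix.SpecialLinearGroup.coe_mul, hcl]; exact e)

theorem card_SL23 : Nat.card SL23 = 24 := by
  have : Fact (Nat.Prime 3) := ⟨Nat.prime_three⟩
  rw [CfsgLib.Linear.card_SL_two, ZMod.card]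
  norm_num

end CfsgLib.HeisenbergSL
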