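import Cfsg.Agent.HeisenbergSL.Coord
import Cfsg.Agent.AutPSp.SylowCenter

/-!
# The centraliser of a transvection in `PSp(4,3)`
-/

set_option autoImplicit false

set_option maxHeartbeats 400000

namespace CfsgLib.HeisenbergSL

open Matrix CfsgLib.Forms CfsgLib.Forms4 CfsgLib.AutPSp

variable {F : Type*} [Field F]

/-- The general element of the stabiliser of the first basis vector in `Sp(4)`. -/
def stabMat {R : Type*} [CommRing R] (v : Fin 2 → R) (z : R) (A : Matrix (Fin 2) (Fin 2) R) :
    Matrix (Fin 2 ⊕ Fin 2) (Fin 2 ⊕ Fin 2) R :=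
  Matrix.fromBlocks
    !![1, v 0 * A 1 0 - v 1 * A 0 0; 0, A 0 0]
    !![-z, v 0 * A 1 1 - v 1 * A 0 1; v 0, A 0 1]
    !![0, 0; 0, A 1 0]
    !![1, 0; v 1, A 1 1]

theorem stabMat_mem {R : Type*} [CommRing R] (v : Fin 2 → R) (z : R) (A : Matrix (Fin 2) (Fin 2) R)
    (hA : A.det = 1) : stabMat v z A ∈ Matrix.symplecticGroup (Fin 2) R := by
  rw [Matrix.det_fin_two] at hA
  rw [SymplecticGroup.mem_iff, Matrix.J, stabMat, Matrix.fromBlocks_multiply, Matrix.fromBlocks_transpose,
    Matrix.fromBlocks_multiply, Matrix.fromBlocks_inj]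
  refine ⟨?_, ?_, ?_, ?_⟩ <;>
  · ext i j
    fin_cases i <;> fin_cases j <;>
      simp [Matrix.mul_apply, Fin.sum_univ_two, Matrix.transpose_apply, Matrix.one_apply, Matrix.vecMul, dotProduct]
    all_goals first
      | ring1
      | linear_combination -(1 : R) * hA
      | linear_combination (1 : R) * hA
      | linear_combination (v 0) * hA
      | linear_combination -(v 0) * hA
      | linear_combination (v 1) * hA
      | linear_combination -(v 1) * hA

theorem stabMat_mul {R : Type*} [CommRing R] (v w : Fin 2 → R) (z y : R)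
    (A B : Matrix (Fin 2) (Fin 2) R) (hA : A.det = 1) :
    stabMat v z A * stabMat w y B =
      stabMat (v + A *ᵥ w) (z + y - det2 v (A *ᵥ w)) (A * B) := by
  rw [Matrix.det_fin_two] at hA
  rw [stabMat, stabMat, stabMat, Matrix.fromBlocks_multiply, Matrix.fromBlocks_inj]
  refine ⟨?_, ?_, ?_, ?_⟩ <;>
  · ext i j
    fin_cases i <;> fin_cases j <;>
      simp [Matrix.mul_apply, Fin.sum_univ_two, Matrix.mulVec, dotProduct, det2]
    all_goals first
      | ring1
      | linear_combination (w 0 * B 1 0 - w 1 * B 0 0) * hA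
      | linear_combination -(w 0 * B 1 0 - w 1 * B 0 0) * hA
      | linear_combination (w 0 * B 1 1 - w 1 * B 0 1) * hA
      | linear_combination -(w 0 * B 1 1 - w 1 * B 0 1) * hA

variable (F) in
/-- The first basis vector. -/
def baseVec : Fin 2 ⊕ Fin 2 → F := Pi.single (Sum.inl 0) 1

theorem baseVec_ne : baseVec F ≠ 0 := fun h => by
  have := congrFun h (Sum.inl 0)
  simp [baseVec] at this

theorem stabMat_baseVec (v : Fin 2 → F) (z : F) (A : Matrix (Fin 2) (Fin 2) F) :
    stabMat v z A *ᵥ baseVec F = baseVec F := by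
  ext i
  rw [baseVec, Matrix.mulVec_single_one]
  rcases i with i | i <;> fin_cases i <;> simp [stabMat]

theorem map_det (ι : ZMod 3 ≃+* F) (A : SL23) : (A.1.map ι).det = 1 := by
  rw [Matrix.det_fin_two]
  simp only [Matrix.map_apply]
  rw [← map_mul, ← map_mul, ← map_sub, ← Matrix.det_fin_two, A.2, map_one]

/-- The general element of the stabiliser in `Sp(4,3)`. -/
def stabSp (ι : ZMod 3 ≃+* F) (v : Fin 2 → ZMod 3) (z : ZMod 3) (A : SL23) :
    Matrix.symplecticGroup (Fin 2) F :=
  ⟨stabMat (fun i => ι (v i)) (ι z) (A.1.map ι), stabMat_mem _ _ _ (map_det ι A)⟩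

theorem stabSp_val (ι : ZMod 3 ≃+* F) (v : Fin 2 → ZMod 3) (z : ZMod 3) (A : SL23) :
    (stabSp ι v z A).1 = stabMat (fun i => ι (v i)) (ι z) (A.1.map ι) := rfl

variable [Fintype F]

/-- The centraliser of a transvection in `PSp(4,3)` has coordinates. -/
theorem exists_coord_centralizer (hF : Fintype.card F = 3) :
    ∃ Q : (Fin 2 → ZMod 3) → ZMod 3 → SL23 →
        Subgroup.centralizer ({mkT (baseVec F) 1} : Set (Cfsg.PSp 2 F)),
      IsCoord Q := by
  haveI := Fact.mk Nat.prime_three
  obtain ⟨ι⟩ : Nonempty (ZMod 3 ≃+* F) := ⟨ZMod.ringEquivOfPrime F Nat.prime_three hF⟩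
  haveI : CharP F 3 := charP_of_injective_ringHom (f := ι.toRingHom) ι.injective 3
  have hM : ∀ v z A, (stabSp ι v z A).1 *ᵥ baseVec F = baseVec F := by
    intro v z A
    rw [stabSp_val]
    exact stabMat_baseVec (F := F) _ _ _
  have hcomm : ∀ v z A, (QuotientGroup.mk (stabSp ι v z A) : Cfsg.PSp 2 F) ∈
      Subgroup.centralizer ({mkT (baseVec F) 1} : Set (Cfsg.PSp 2 F)) := by
    intro v z A
    rw [Subgroup.mem_centralizer_singleton_iff]
    have h := conj_spTransv (stabSp ι v z A) (baseVec F) 1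
    rw [hM, mul_inv_eq_iff_eq_mul] at h
    exact congrArg (QuotientGroup.mk' (Subgroup.center (Matrix.symplecticGroup (Fin 2) F))) h
  refine ⟨fun v z A => ⟨_, hcomm v z A⟩, ?_, ?_, ?_⟩
  · intro v z A w y B h
    have h0 : (QuotientGroup.mk (stabSp ι v z A) : Cfsg.PSp 2 F) = QuotientGroup.mk (stabSp ι w y B) :=
      congrArg Subtype.val h
    rw [QuotientGroup.eq, mem_center_iff] at h0
    obtain ⟨r, hr⟩ := h0
    have h1 := congrArg (fun N => (stabSp ι v z A).1 * N) hr
    rw [← Submonoid.coe_mul, mul_inv_cancel_left, Matrix.mul_smul, Matrix.mul_one] at h1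
    have hr1 : r = 1 := by
      have := congrFun (congrFun h1 (Sum.inl 0)) (Sum.inl 0)
      simpa [stabSp_val, stabMat] using this.symm
    rw [hr1, one_smul] at h1
    have he : ∀ i j, (stabSp ι w y B).1 i j = (stabSp ι v z A).1 i j := fun i j => by rw [h1]
    refine ⟨funext fun i => ?_, ι.injective ?_, Subtype.ext (Matrix.ext fun i j => ι.injective ?_)⟩
    · apply ι.injective
      fin_cases i
      · simpa [stabSp_val, stabMat] using (he (Sum.inl 1) (Sum.inr 0)).symm
      · simpa [stabSp_val, stabMat] using (he (Sum.inr 1) (Sum.inr 0)).symm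
    · simpa [stabSp_val, stabMat] using (he (Sum.inl 0) (Sum.inr 0)).symm
    · fin_cases i <;> fin_cases j
      · simpa [stabSp_val, stabMat] using (he (Sum.inl 1) (Sum.inl 1)).symm
      · simpa [stabSp_val, stabMat] using (he (Sum.inl 1) (Sum.inr 1)).symm
      · simpa [stabSp_val, stabMat] using (he (Sum.inr 1) (Sum.inl 1)).symm
      · simpa [stabSp_val, stabMat] using (he (Sum.inr 1) (Sum.inr 1)).symm
  · rintro ⟨x, hx⟩
    obtain ⟨N, rfl⟩ := QuotientGroup.mk_surjective x
    rw [Subgroup.mem_centralizer_singleton_iff] at hx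
    have hT : spTransv (N.1 *ᵥ baseVec F) 1 = spTransv (baseVec F) 1 := by
      rw [← conj_spTransv]
      refine eq_of_mk_eq 3 (k := 1) (by norm_num) ?_ (spTransv_pow_char 3 _ _ 1 le_rfl) ?_
      · rw [conj_pow, spTransv_pow_char 3 _ _ 1 le_rfl]
        simp
      · rw [QuotientGroup.mk_mul, QuotientGroup.mk_mul, QuotientGroup.mk_inv]
        exact mul_inv_eq_iff_eq_mul.2 hx
    obtain ⟨t, ht⟩ := line_of_spTransv_eq baseVec_ne one_ne_zero hT.symm
    have ht2 : t ^ 2 = 1 := by
      rw [ht, spTransv_smul, mul_one] at hT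
      have h2 := congrArg (fun B : Matrix.symplecticGroup (Fin 2) F =>
        B.1 *ᵥ (Pi.single (Sum.inr 0) 1 : Fin 2 ⊕ Fin 2 → F)) hT
      simp only [spTransv_mulVec] at h2
      have := congrFun h2 (Sum.inl 0)
      simpa [baseVec, sympForm_single_inl] using this
    let s : Matrix.symplecticGroup (Fin 2) F := scalarSp (rootsOfUnity.mkOfPowEq t ht2)
    let N' := N * s
    have hN' : N'.1 *ᵥ baseVec F = baseVec F := by
      simp [N', s, scalarSp, ht, smul_smul, ← sq, ht2, Submonoid.coe_mul, ← Matrix.mulVec_mulVec,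
        Matrix.smul_mulVec, Matrix.mulVec_smul]
    have hform : ∀ u w : Fin 2 ⊕ Fin 2,
        Cfsg.sympForm 2 F (fun k => N'.1 k u) (fun k => N'.1 k w) =
          Cfsg.sympForm 2 F (Pi.single u 1) (Pi.single w 1) := by
      intro u w
      have := sympForm_map N' (Pi.single u 1) (Pi.single w 1)
      rwa [Matrix.mulVec_single_one, Matrix.mulVec_single_one] at this
    have hcol : ∀ k, N'.1 k (Sum.inl 0) = (Pi.single (Sum.inl 0) 1 : Fin 2 ⊕ Fin 2 → F) k := by
      intro k
      have := congrFun hN' k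
      rwa [baseVec, Matrix.mulVec_single_one] at this
    have hrow : ∀ u, N'.1 (Sum.inr 0) u = (Pi.single u 1 : Fin 2 ⊕ Fin 2 → F) (Sum.inr 0) := by
      intro u
      have := sympForm_map N' (Pi.single u 1) (baseVec F)
      rw [hN', Matrix.mulVec_single_one, baseVec, sympForm_single_inl, sympForm_single_inl] at this
      exact this
    have hc0 : N'.1 (Sum.inl 0) (Sum.inl 0) = 1 := by simp [hcol]
    have hc1 : N'.1 (Sum.inl 1) (Sum.inl 0) = 0 := by simp [hcol]
    have hc3 : N'.1 (Sum.inr 1) (Sum.inl 0) = 0 := by simp [hcol]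
    have hr0 : N'.1 (Sum.inr 0) (Sum.inl 0) = 0 := by simp [hrow]
    have hr1 : N'.1 (Sum.inr 0) (Sum.inl 1) = 0 := by simp [hrow]
    have hr2 : N'.1 (Sum.inr 0) (Sum.inr 0) = 1 := by simp [hrow]
    have hr3 : N'.1 (Sum.inr 0) (Sum.inr 1) = 0 := by simp [hrow]
    have hdet := hform (Sum.inl 1) (Sum.inr 1)
    have hl := hform (Sum.inr 0) (Sum.inl 1)
    have hr := hform (Sum.inr 0) (Sum.inr 1)
    simp [sympForm_eq_sum, Fin.sum_univ_two, hr1, hr2, hr3] at hdet hl hr
    let A : SL23 := ⟨!![ι.symm (N'.1 (Sum.inl 1) (Sum.inl 1)), ι.symm (N'.1 (Sum.inl 1) (Sum.inr 1));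
      ι.symm (N'.1 (Sum.inr 1) (Sum.inl 1)), ι.symm (N'.1 (Sum.inr 1) (Sum.inr 1))], by
        rw [Matrix.det_fin_two]
        apply ι.injective
        simp only [Matrix.of_apply, Matrix.cons_val', Matrix.cons_val_zero, Matrix.cons_val_one,
          Matrix.cons_val_fin_one, map_sub, map_mul, map_one, RingEquiv.apply_symm_apply]
        linear_combination -hdet⟩
    refine ⟨![ι.symm (N'.1 (Sum.inl 1) (Sum.inr 0)), ι.symm (N'.1 (Sum.inr 1) (Sum.inr 0))],
      ι.symm (-N'.1 (Sum.inl 0) (Sum.inr 0)), A, Subtype.ext ?_⟩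
    refine QuotientGroup.eq.2 ?_
    have hMN : ∀ v z B, stabSp ι v z B = N' → (stabSp ι v z B)⁻¹ * N ∈
        Subgroup.center (Matrix.symplecticGroup (Fin 2) F) := by
      intro v z B e
      rw [e, show N'⁻¹ * N = s⁻¹ by simp [N']]
      exact inv_mem (mem_center_of_scalar rfl)
    apply hMN
    refine Subtype.ext (Matrix.ext fun i j => ?_)
    rw [stabSp_val]
    rcases i with i | i <;> rcases j with j | j <;> fin_cases i <;> fin_cases j <;>
      simp [stabSp_val, A, stabMat, hc0, hc1, hc3, hr0, hr1, hr2, hr3]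
    all_goals first
      | linear_combination hl
      | linear_combination -hl
      | linear_combination hr
      | linear_combination -hr
  · intro v z A w y B
    refine Subtype.ext ?_
    rw [Subgroup.coe_mul, ← QuotientGroup.mk_mul]
    refine congrArg QuotientGroup.mk (Subtype.ext ?_)
    rw [Submonoid.coe_mul]
    simp only [stabSp_val]
    rw [stabMat_mul]
    · congr 1
      · funext i
        fin_cases i <;> simp [Matrix.mulVec, dotProduct, map_add, map_mul]
      · simp [det2, Matrix.mulVec, dotProduct, map_add, map_mul, map_sub]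
      · rw [Matrix.SpecialLinearGroup.coe_mul, Matrix.map_mul]
    · exact map_det ι A

/-- The transvection is an element of order three that is central in a Sylow subgroup. -/
theorem exists_sylow_transv (hF : Fintype.card F = 3) :
    orderOf (mkT (baseVec F) (1 : F)) = 3 ∧ ∃ S : Sylow 3 (Cfsg.PSp 2 F),
      mkT (baseVec F) (1 : F) ∈ (S : Subgroup (Cfsg.PSp 2 F)) ∧
      mkT (baseVec F) (1 : F) ∈ Subgroup.centralizer ((S : Subgroup (Cfsg.PSp 2 F)) : Set (Cfsg.PSp 2 F)) := by
  haveI := Fact.mk Nat.prime_three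
  obtain ⟨ι⟩ : Nonempty (ZMod 3 ≃+* F) := ⟨ZMod.ringEquivOfPrime F Nat.prime_three hF⟩
  haveI : CharP F 3 := charP_of_injective_ringHom (f := ι.toRingHom) ι.injective 3
  obtain ⟨S, hS, hcen⟩ := exists_sylow_mkT (m := 2) 3 (by norm_num) (baseVec_ne (F := F)) (1 : F)
  refine ⟨orderOf_eq_prime ?_ ?_, S, hS, Subgroup.mem_centralizer_iff.2 hcen⟩
  · rw [mkT, ← QuotientGroup.mk_pow, ← pow_one 3, spTransv_pow_char 3 _ _ 1 le_rfl]
    rfl
  · intro h
    exact spTransv_ne_one (baseVec_ne (F := F)) one_ne_zero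
      (eq_of_mk_eq 3 (k := 1) (by norm_num) (spTransv_pow_char 3 _ _ 1 le_rfl) (one_pow _) h)

end CfsgLib.HeisenbergSL
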